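import Mathlib
import Cfsg.Agent.Helper98.SU33c

/-!
# Centralizers of an element of order 3 and an element of order 8 in `SU_3(3)`: data and the
slice predicate (helper54, for S3670; pattern of `Helper98/SU33Data.lean`)
-/

set_option autoImplicit false

namespace Cfsg.Agent.Helper54.U33

open Cfsg.Agent.Helper98.U33 Cfsg.Agent.Helper98.SU33

/-- the cyclic permutation matrix (regular unipotent, order 3) -/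
def p3 : B3 := ⟨0, 0, 0, 0, 1, 0, 1, 0, 0, 0, 0, 0, 0, 0, 1, 0, 0, 0⟩

/-- the centralizer of `p3` -/
def cent3 : List B3 :=
  [⟨0, 0, 1, 0, 0, 0, 0, 0, 0, 0, 1, 0, 1, 0, 0, 0, 0, 0⟩,
   ⟨0, 0, 0, 0, 1, 0, 1, 0, 0, 0, 0, 0, 0, 0, 1, 0, 0, 0⟩,
   ⟨0, 1, 1, 1, 0, 1, 0, 1, 0, 1, 1, 1, 1, 1, 0, 1, 0, 1⟩,
   ⟨0, 1, 0, 1, 1, 1, 1, 1, 0, 1, 0, 1, 0, 1, 1, 1, 0, 1⟩,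
   ⟨0, 2, 1, 2, 0, 2, 0, 2, 0, 2, 1, 2, 1, 2, 0, 2, 0, 2⟩,
   ⟨0, 2, 0, 2, 1, 2, 1, 2, 0, 2, 0, 2, 0, 2, 1, 2, 0, 2⟩,
   ⟨1, 0, 0, 0, 0, 0, 0, 0, 1, 0, 0, 0, 0, 0, 0, 0, 1, 0⟩,
   ⟨1, 1, 0, 1, 0, 1, 0, 1, 1, 1, 0, 1, 0, 1, 0, 1, 1, 1⟩,
   ⟨1, 2, 0, 2, 0, 2, 0, 2, 1, 2, 0, 2, 0, 2, 0, 2, 1, 2⟩]

/-- the centralizer of `e8` -/
def cent8 : List B3 :=
  [⟨0, 0, 0, 0, 2, 0, 0, 0, 0, 2, 0, 0, 0, 1, 0, 0, 0, 0⟩,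
   ⟨0, 0, 0, 0, 1, 0, 0, 0, 0, 2, 0, 0, 0, 2, 0, 0, 0, 0⟩,
   ⟨0, 0, 0, 0, 0, 1, 0, 0, 0, 1, 0, 0, 1, 0, 0, 0, 0, 0⟩,
   ⟨0, 0, 0, 0, 0, 2, 0, 0, 0, 1, 0, 0, 2, 0, 0, 0, 0, 0⟩,
   ⟨0, 1, 0, 0, 0, 0, 0, 0, 2, 0, 0, 0, 0, 0, 0, 0, 0, 1⟩,
   ⟨0, 2, 0, 0, 0, 0, 0, 0, 2, 0, 0, 0, 0, 0, 0, 0, 0, 2⟩,
   ⟨1, 0, 0, 0, 0, 0, 0, 0, 1, 0, 0, 0, 0, 0, 0, 0, 1, 0⟩,
   ⟨2, 0, 0, 0, 0, 0, 0, 0, 1, 0, 0, 0, 0, 0, 0, 0, 2, 0⟩]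

/-- an element commuting with `p3` lies in `cent3`, one commuting with `e8` lies in `cent8` -/
def okCent2 (x : B3) : Bool :=
  (!(decide (B3.mul x p3 = B3.mul p3 x)) || cent3.contains x) &&
    (!(decide (B3.mul x e8 = B3.mul e8 x)) || cent8.contains x)

/-- the statement checked for a fixed first entry of the first column -/
def SliceC (a1 : S9) : Prop :=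
  ∀ a2r a2i a3r a3i : ZMod 3, nrm a1 ⟨a2r, a2i⟩ ⟨a3r, a3i⟩ = 1 →
    ∀ b1r b1i b2r b2i b3r b3i : ZMod 3,
      nrm ⟨b1r, b1i⟩ ⟨b2r, b2i⟩ ⟨b3r, b3i⟩ = 1 →
      orthRe a1 ⟨a2r, a2i⟩ ⟨a3r, a3i⟩ ⟨b1r, b1i⟩ ⟨b2r, b2i⟩ ⟨b3r, b3i⟩ = 0 →
      orthIm a1 ⟨a2r, a2i⟩ ⟨a3r, a3i⟩ ⟨b1r, b1i⟩ ⟨b2r, b2i⟩ ⟨b3r, b3i⟩ = 0 →
      okCent2 (mk3 a1 ⟨a2r, a2i⟩ ⟨a3r, a3i⟩ ⟨b1r, b1i⟩ ⟨b2r, b2i⟩ ⟨b3r, b3i⟩) = true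

instance (a1 : S9) : Decidable (SliceC a1) := by unfold SliceC; infer_instance

end Cfsg.Agent.Helper54.U33
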