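import Mathlib
import Cfsg.Agent.Helper54.U33.CentSlice0
import Cfsg.Agent.Helper54.U33.CentSlice1
import Cfsg.Agent.Helper54.U33.CentSlice2

/-!
# (CG3), (CG8): an element of order 3 with centralizer of order `≤ 9` and an element of order 8
with centralizer of order `≤ 8` in `SU_3(3)` (helper54, for S3670)
-/

set_option autoImplicit false

namespace Cfsg.Agent.Helper54.U33

open Matrix Cfsg.Agent.Helper98 Cfsg.Agent.Helper98.U33 Cfsg.Agent.Helper98.SU33

theorem all_slicesC (a1 : S9) : SliceC a1 := by
  obtain ⟨r, i⟩ := a1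
  fin_cases r <;> fin_cases i
  · exact sliceC_00
  · exact sliceC_01
  · exact sliceC_02
  · exact sliceC_10
  · exact sliceC_11
  · exact sliceC_12
  · exact sliceC_20
  · exact sliceC_21
  · exact sliceC_22

theorem exists_okC (A : SL3') (hA : A ∈ Cfsg.SU 3 GF9 3) :
    ∃ x : B3, sndMat x = A.1 ∧ okCent2 x = true := by
  obtain ⟨a1, a2, a3, b1, b2, b3, h1, h2, h3, h4, h5⟩ := exists_flat A hA
  refine ⟨_, h5, ?_⟩
  exact all_slicesC a1 a2.re a2.im a3.re a3.im h1 b1.re b1.im b2.re b2.im b3.re b3.im h2 h3 h4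

theorem det_p3 : (sndMat p3).det = 1 := by
  rw [Matrix.det_fin_three]; simp [sndMat, p3]; decide

theorem flat_p3 : B3.mul (transB p3) (conjB p3) = B3.one := by decide

theorem orderOf_p3 : orderOf (toSU p3 det_p3 flat_p3) = 3 := by
  have : Fact (Nat.Prime 3) := ⟨by norm_num⟩
  apply orderOf_eq_prime
  · rw [toSU_pow_eq_one_iff]; decide
  · intro h
    have h1 : toSU p3 det_p3 flat_p3 ^ 1 = 1 := by rw [pow_one, h]
    rw [toSU_pow_eq_one_iff] at h1
    revert h1; decide

/-- generic bound: if every element commuting with `g` has its matrix in the list `L`, the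
centralizer has at most `L.length` elements -/
theorem card_centralizer_le (g : S) (L : List B3)
    (hL : ∀ A : S, A * g = g * A → ∃ x ∈ L, sndMat x = (A.1.1 : Matrix (Fin 3) (Fin 3) GF9)) :
    Nat.card (Subgroup.centralizer ({g} : Set S)) ≤ L.length := by
  classical
  have hex : ∀ A : Subgroup.centralizer ({g} : Set S),
      ∃ x : {x : B3 // x ∈ L.toFinset}, sndMat x.1 = ((A : S).1.1 : Matrix (Fin 3) (Fin 3) GF9) := by
    intro A
    have hc : (A : S) * g = g * (A : S) := by
      have := A.2
      rw [Subgroup.mem_centralizer_iff] at this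
      exact (this g (Set.mem_singleton g)).symm
    obtain ⟨x, hx, hxe⟩ := hL A hc
    exact ⟨⟨x, List.mem_toFinset.mpr hx⟩, hxe⟩
  choose f hf using hex
  have hinj : Function.Injective f := by
    intro A B hAB
    have h1 := hf A
    have h2 := hf B
    rw [hAB] at h1
    have : ((A : S).1.1 : Matrix (Fin 3) (Fin 3) GF9) = (B : S).1.1 := by rw [← h1, ← h2]
    exact Subtype.ext (Subtype.ext (Subtype.ext this))
  calc Nat.card (Subgroup.centralizer ({g} : Set S))
      ≤ Nat.card {x : B3 // x ∈ L.toFinset} := Nat.card_le_card_of_injective f hinj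
    _ = L.toFinset.card := by rw [Nat.card_eq_fintype_card, Fintype.card_coe]
    _ ≤ L.length := List.toFinset_card_le L

theorem commute_flat {g : B3} (hdet : (sndMat g).det = 1)
    (hflat : B3.mul (transB g) (conjB g) = B3.one) (A : S) (x : B3)
    (hx : sndMat x = (A.1.1 : Matrix (Fin 3) (Fin 3) GF9))
    (hc : A * toSU g hdet hflat = toSU g hdet hflat * A) : B3.mul x g = B3.mul g x := by
  apply sndMat_injective
  rw [sndMat_mul, sndMat_mul, hx]
  have := congrArg (fun B : S => ((B : SL3') : Matrix (Fin 3) (Fin 3) GF9)) hc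
  exact this

/-- (CG3) -/
theorem CG3_centralizer : ∃ g : S, orderOf g = 3 ∧
    Nat.card (Subgroup.centralizer ({g} : Set S)) ≤ 9 := by
  refine ⟨toSU p3 det_p3 flat_p3, orderOf_p3, ?_⟩
  have h := card_centralizer_le (toSU p3 det_p3 flat_p3) cent3 ?_
  · exact h
  · intro A hc
    obtain ⟨x, hx, hok⟩ := exists_okC A.1 A.2
    have hcomm := commute_flat det_p3 flat_p3 A x hx hc
    refine ⟨x, ?_, hx⟩
    simp only [okCent2, Bool.and_eq_true, Bool.or_eq_true, Bool.not_eq_true',
      decide_eq_false_iff_not, List.contains_iff_mem] at hok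
    rcases hok.1 with h | h
    · exact absurd hcomm h
    · exact h

/-- (CG8) -/
theorem CG8_centralizer : ∃ g : S, orderOf g = 8 ∧
    Nat.card (Subgroup.centralizer ({g} : Set S)) ≤ 8 := by
  refine ⟨toSU e8 det_e8 flat_e8, orderOf_e8, ?_⟩
  have h := card_centralizer_le (toSU e8 det_e8 flat_e8) cent8 ?_
  · exact h
  · intro A hc
    obtain ⟨x, hx, hok⟩ := exists_okC A.1 A.2
    have hcomm := commute_flat det_e8 flat_e8 A x hx hc
    refine ⟨x, ?_, hx⟩
    simp only [okCent2, Bool.and_eq_true, Bool.or_eq_true, Bool.not_eq_true',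
      decide_eq_false_iff_not, List.contains_iff_mem] at hok
    rcases hok.2 with h | h
    · exact absurd hcomm h
    · exact h

end Cfsg.Agent.Helper54.U33
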