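import Mathlib
import Cfsg.Prelude.Def_Classical
import Cfsg.Agent.Helper98.SU33c
import Cfsg.Agent.Helper45.SUCard
import Cfsg.Agent.S0283

/-!
# `SU_3(3)` over `GF9` (helper98's model): order `6048`, perfect (helper54, for S3670)
-/

set_option autoImplicit false

namespace Cfsg.Agent.Helper54.U33

open Cfsg Cfsg.Agent.Helper98.SU33
open scoped commutatorElement

/-- (CCARD) from `Helper45.GU.card_SU`. -/
theorem CCARD_card : Nat.card S = 6048 := by
  have hF : Fintype.card Cfsg.Agent.Helper98.GF9 = 3 ^ 2 := by
    rw [Cfsg.Agent.Helper98.card_GF9]; norm_num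
  have h := Cfsg.Agent.Helper45.GU.card_SU hF 3 (by norm_num)
  have hprod : ∏ i ∈ Finset.range 3, (if Even i then 3 ^ (i + 1) + 1 else 3 ^ (i + 1) - 1) =
      (3 + 1) * (3 ^ 2 - 1) * (3 ^ 3 + 1) := by
    simp [Finset.prod_range_succ]
  rw [hprod] at h
  have h' : (3 + 1) * Nat.card S = (3 + 1) * 6048 := by
    rw [h]; norm_num
  exact Nat.eq_of_mul_eq_mul_left (by norm_num) h'

/-- a simple group with trivial centre and more than one element is perfect -/
theorem commutator_eq_top_of_simple {G : Type*} [Group G] [IsSimpleGroup G]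
    (hc : Subgroup.center G = ⊥) (hcard : Nat.card G ≠ 1) : commutator G = ⊤ := by
  rcases (inferInstance : (commutator G).Normal).eq_bot_or_eq_top with h | h
  · exfalso
    have hcomm : ∀ a b : G, a * b = b * a := by
      intro a b
      have : ⁅a, b⁆ ∈ commutator G := Subgroup.commutator_mem_commutator (Subgroup.mem_top a)
        (Subgroup.mem_top b)
      rw [h, Subgroup.mem_bot] at this
      exact commutatorElement_eq_one_iff_mul_comm.mp this
    have hcen : Subgroup.center G = ⊤ := by
      rw [eq_top_iff]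
      intro z _
      rw [Subgroup.mem_center_iff]
      intro g
      exact hcomm g z
    rw [hc] at hcen
    apply hcard
    have : Nat.card (⊥ : Subgroup G) = Nat.card (⊤ : Subgroup G) := by rw [hcen]
    rw [Subgroup.card_bot, Subgroup.card_top] at this
    exact this.symm
  · exact h

/-- (CPERF) `SU_3(3)` is perfect. -/
theorem CPERF_perfect : commutator S = ⊤ := by
  have hF : Fintype.card Cfsg.Agent.Helper98.GF9 = 9 := Cfsg.Agent.Helper98.card_GF9
  have hF2 : Fintype.card Cfsg.Agent.Helper98.GF9 = 3 ^ 2 := by rw [hF]; norm_num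
  haveI hs : IsSimpleGroup (Cfsg.PSU 3 Cfsg.Agent.Helper98.GF9 3) :=
    Cfsg.Agent.S0283.result hF2 3 le_rfl (by norm_num)
  haveI : IsSimpleGroup S := (psuEquiv hF).symm.isSimpleGroup
  exact commutator_eq_top_of_simple center_S (by rw [CCARD_card]; norm_num)

end Cfsg.Agent.Helper54.U33
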