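import Cfsg.Agent.Helper54.U33.W1
import Cfsg.Agent.Helper98.U33.CCL
import Cfsg.Agent.Helper39.DegreeGraphPSL2
import Cfsg.Agent.Helper74.DegP
import Cfsg.Agent.Helper76.CharBasic
import Cfsg.Agent.Helper79.CharComplete
import Cfsg.Agent.Helper54.U33.Conc
import Cfsg.Agent.Helper54.U33.CentMain
import Cfsg.Agent.Helper37.U33.AR
import Cfsg.Agent.Helper37.U33.ENG
import Cfsg.Agent.Helper60.U33.GR
import Cfsg.Agent.Helper60.U33.S7
import Cfsg.Agent.Helper70.U33.N3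
import Cfsg.Agent.Helper70.U33.N8
import Cfsg.Agent.Helper76.U33.NV3
import Cfsg.Agent.Helper76.U33.NV8
import Cfsg.Agent.Helper87.U33.VAN
import Cfsg.Agent.Helper87.U33.WP
import Cfsg.Agent.Helper87.U33.WK
import Cfsg.Agent.Helper87.U33.WFalt

/-!
# S3670 assembly (helper54): the character degree graph of `PSU_3(3)` is the triangle on
`{2, 3, 7}`, realised also by a solvable group of order `6048`.
-/

set_option autoImplicit false

namespace Cfsg.Agent.Helper54.U33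

open Cfsg Cfsg.Agent.Helper16.DefOne Cfsg.Agent.Helper16.Brauer43

universe u

/-- The three degrees from abstract data on the group. -/
theorem degrees_of_data {G : Type u} [Group G] [Fintype G] (hcard : Nat.card G = 6048)
    (hperf : commutator G = ⊤)
    (hspec : ∀ g : G, orderOf g ∈ ({1, 2, 3, 4, 6, 7, 8, 12} : Set ℕ))
    (hcl : 14 ≤ Nat.card (ConjClasses G))
    (h3 : ∃ g : G, orderOf g = 3 ∧ Nat.card (Subgroup.centralizer ({g} : Set G)) ≤ 9)
    (h8 : ∃ g : G, orderOf g = 8 ∧ Nat.card (Subgroup.centralizer ({g} : Set G)) ≤ 8) :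
    (∃ d ∈ charDegrees G, 6 ∣ d) ∧ (∃ d ∈ charDegrees G, 14 ∣ d) ∧
      (∃ d ∈ charDegrees G, 21 ∣ d) := by
  obtain ⟨P, hP, hC, he, hidx⟩ := Cfsg.Agent.Helper60.U33.S7_sylow hcard hspec
  obtain ⟨S, hS5, h1S, h7, χ6, -, h6⟩ := Cfsg.Agent.Helper37.U33.ENG_config P hP hC he hidx hperf Cfsg.Agent.Helper37.U33.AR_six_dvd
  have hk : Nat.card (IrrCharacter G) = Nat.card (ConjClasses G) :=
    Helper79.card_irr_eq_card_conjClasses
  have hprin : ∀ g : G, ∃ χ ∈ S, (χ : G → ℂ) g ≠ 0 := fun g =>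
    ⟨Helper79.principalIrr G, h1S, by
      show (1 : ℂ) ≠ 0
      exact one_ne_zero⟩
  refine ⟨⟨_, ⟨χ6, rfl⟩, h6⟩, ?_, ?_⟩
  · obtain ⟨g, ho, hc⟩ := h8
    have hNV := Cfsg.Agent.Helper76.U33.NV8_card g ho (fun χ h0 =>
      Cfsg.Agent.Helper70.U33.N8_normSq (χ : G → ℂ) (Helper79.irr_isCharacter χ) g
        (by rw [← ho]; exact pow_orderOf_eq_one g) h0)
    obtain ⟨χ, hχS, hχ0⟩ := Cfsg.Agent.Helper87.U33.VAN_exists g 8 (hNV.trans hc) (by rw [hk]; omega) S hS5 (hprin g)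
    refine ⟨_, ⟨χ, rfl⟩, ?_⟩
    have h2 : 2 ∣ charDegree (χ : G → ℂ) := by
      haveI : Fact (Nat.Prime 2) := ⟨Nat.prime_two⟩
      exact Helper76.vanishing_pElement_dvd_degree 2 (χ : G → ℂ) (Helper79.irr_isCharacter χ) g
        ⟨3, by rw [ho]; norm_num⟩ hχ0
    have hcop : Nat.Coprime 2 7 := by norm_num
    exact hcop.mul_dvd_of_dvd_of_dvd h2 (h7 χ hχS)
  · obtain ⟨g, ho, hc⟩ := h3
    have hNV := Cfsg.Agent.Helper76.U33.NV3_card g (fun χ h0 =>
      Cfsg.Agent.Helper70.U33.N3_normSq (χ : G → ℂ) (Helper79.irr_isCharacter χ) g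
        (by rw [← ho]; exact pow_orderOf_eq_one g) h0)
    obtain ⟨χ, hχS, hχ0⟩ := Cfsg.Agent.Helper87.U33.VAN_exists g 9 (hNV.trans hc) (by rw [hk]; omega) S hS5 (hprin g)
    refine ⟨_, ⟨χ, rfl⟩, ?_⟩
    have h3' : 3 ∣ charDegree (χ : G → ℂ) := by
      haveI : Fact (Nat.Prime 3) := ⟨Nat.prime_three⟩
      exact Helper76.vanishing_pElement_dvd_degree 3 (χ : G → ℂ) (Helper79.irr_isCharacter χ) g
        ⟨1, by rw [ho]; norm_num⟩ hχ0
    have hcop : Nat.Coprime 3 7 := by norm_num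
    exact hcop.mul_dvd_of_dvd_of_dvd h3' (h7 χ hχS)

/-- all irreducible degrees divide the group order -/
theorem charDegrees_dvd {K : Type u} [Group K] [Fintype K] :
    ∀ d ∈ charDegrees K, d ∣ Nat.card K := by
  rintro d ⟨χ, rfl⟩
  exact Helper74.charDegree_dvd_card χ

open Cfsg.Agent.Helper98.SU33 in
/-- the three degrees for `SU_3(3)` over `GF9` -/
theorem degrees_S : (∃ d ∈ charDegrees S, 6 ∣ d) ∧ (∃ d ∈ charDegrees S, 14 ∣ d) ∧
    (∃ d ∈ charDegrees S, 21 ∣ d) := by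
  classical
  haveI : Fintype S := Fintype.ofFinite S
  refine degrees_of_data CCARD_card CPERF_perfect ?_ Cfsg.Agent.Helper98.U33x.CCL_classes CG3_centralizer CG8_centralizer
  intro g
  have : orderOf g ∈ Set.range (orderOf : S → ℕ) := ⟨g, rfl⟩
  rw [range_orderOf_S] at this
  exact this

/-- the degree graph of `PSU_3(3)` -/
theorem graph_PSU {F : Type u} [Field F] [Fintype F] (hF : Fintype.card F = 9) :
    degreePrimes (Cfsg.PSU 3 F 3) = {2, 3, 7} ∧ degreeGraph (Cfsg.PSU 3 F 3) = Cfsg.Agent.Helper60.U33.tri := by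
  classical
  have e := Cfsg.Agent.Helper98.SU33.psuEquiv hF
  have hcd : charDegrees (Cfsg.PSU 3 F 3) = charDegrees Cfsg.Agent.Helper98.SU33.S :=
    Helper39.charDegrees_congr e
  obtain ⟨h6, h14, h21⟩ := degrees_S
  haveI : Fintype Cfsg.Agent.Helper98.SU33.S := Fintype.ofFinite _
  apply Cfsg.Agent.Helper60.U33.GR_graph
  · rw [hcd]
    intro d hd
    have := charDegrees_dvd d hd
    rwa [CCARD_card] at this
  · rw [hcd]; exact h6
  · rw [hcd]; exact h14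
  · rw [hcd]; exact h21

/-- `C₂` has the trivial induction datum. -/
theorem hasInd_top (H : Type) [Group H] : Cfsg.Agent.Helper87.U33.HasInd H 1 := by
  refine ⟨⊤, inferInstance, 1, Subgroup.index_top, ?_⟩
  intro h hh
  exact absurd (Subgroup.mem_top h) hh

/-- (W2) the witness `H = F × K × C₂`. -/
theorem witness : ∃ (H : Type) (_ : Group H) (_ : Fintype H), Group.IsSolvable H ∧
    Nat.card H = 6048 ∧ ∃ χ : IrrCharacter H, 42 ∣ charDegree (χ : H → ℂ) := by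
  classical
  obtain ⟨F, iF, fF, hFs, hFc, hFi⟩ := Cfsg.Agent.Helper87.U33.WF_frob56
  obtain ⟨K, iK, fK, hKs, hKc, hKi⟩ := Cfsg.Agent.Helper87.U33.WK_group54
  refine ⟨F × (K × Multiplicative (ZMod 2)), inferInstance, inferInstance, ?_, ?_, ?_⟩
  · haveI := hFs
    haveI := hKs
    infer_instance
  · rw [Nat.card_prod, Nat.card_prod, hFc, hKc]
    simp
  · have h := Cfsg.Agent.Helper87.U33.WP_prod 7 (6 * 1) hFi (Cfsg.Agent.Helper87.U33.WP_prod 6 1 hKi (hasInd_top (Multiplicative (ZMod 2))))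
    obtain ⟨χ, hχ⟩ := W1_induced _ h
    exact ⟨χ, by rw [hχ]⟩

/-- main theorem -/
theorem main {F : Type u} [Field F] [Fintype F] (hF : Fintype.card F = 9) :
    ∃ (H : Type) (_ : Group H) (_ : Fintype H), Group.IsSolvable H ∧ Nat.card H = 6048 ∧
      Cfsg.degreePrimes H = Cfsg.degreePrimes (Cfsg.PSU 3 F 3) ∧
      Cfsg.degreeGraph H = Cfsg.degreeGraph (Cfsg.PSU 3 F 3) := by
  obtain ⟨H, iH, fH, hs, hc, χ, h42⟩ := witness
  obtain ⟨hp, hg⟩ := graph_PSU hF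
  have hH : degreePrimes H = {2, 3, 7} ∧ degreeGraph H = Cfsg.Agent.Helper60.U33.tri := by
    apply Cfsg.Agent.Helper60.U33.GR_graph
    · intro d hd
      have := charDegrees_dvd d hd
      rwa [hc] at this
    · exact ⟨_, ⟨χ, rfl⟩, Dvd.dvd.trans (by norm_num) h42⟩
    · exact ⟨_, ⟨χ, rfl⟩, Dvd.dvd.trans (by norm_num) h42⟩
    · exact ⟨_, ⟨χ, rfl⟩, Dvd.dvd.trans (by norm_num) h42⟩
  exact ⟨H, iH, fH, hs, hc, by rw [hH.1, hp], by rw [hH.2, hg]⟩

end Cfsg.Agent.Helper54.U33
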