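import Mathlib
import Cfsg.Prelude.Def_Blocks
import Cfsg.Agent.Helper81.CliffordInd
import Cfsg.Agent.Helper15.ConjChar
import Cfsg.Agent.Helper79.Linear
import Cfsg.Agent.Helper79.CharComplete
import Cfsg.Agent.Helper74.CharBasic
import Cfsg.Agent.Helper87.U33.WP

/-!
# (W1) Clifford criterion: a linear character of a normal subgroup with inertia group the subgroup
itself induces irreducibly (helper54, for S3670)
-/

set_option autoImplicit false

namespace Cfsg.Agent.Helper54.U33

open Cfsg

/-- (W1) -/
theorem W1_induced {H : Type} [Group H] [Fintype H] (n : ℕ)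
    (h : Cfsg.Agent.Helper87.U33.HasInd H n) :
    ∃ χ : IrrCharacter H, charDegree (χ : H → ℂ) = n := by
  classical
  obtain ⟨A, hA, lam, hidx, hmove⟩ := h
  haveI := hA
  haveI : Fintype A := Fintype.ofFinite A
  have hirr : IsIrrCharacter A (lam : A → ℂ) := Helper79.isIrrCharacter_of_monoidHom lam
  have hcf : IsClassFunction A (lam : A → ℂ) :=
    Helper79.isClassFunction_of_isCharacter (Helper74.isCharacter_of_isIrr hirr)
  have hT : A = Helper15.inertia A (lam : A → ℂ) := by
    apply le_antisymm
    · exact Helper15.le_inertia A hcf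
    · intro g hg
      by_contra hgA
      obtain ⟨a, ha⟩ := hmove g hgA
      rw [Helper15.mem_inertia_iff] at hg
      exact ha (hg a)
  have hself : classInner (Helper15.resTo A A le_rfl (lam : A → ℂ)) (lam : A → ℂ) ≠ 0 := by
    have h1 : Helper15.resTo A A le_rfl (lam : A → ℂ) = (lam : A → ℂ) := by
      funext a
      rfl
    rw [h1]
    have := Helper74.irr_inner_self (⟨(lam : A → ℂ), hirr⟩ : IrrCharacter A)
    simp only at this
    rw [this]
    exact one_ne_zero
  obtain ⟨hI, -⟩ := Helper81.isIrrCharacter_indFun_inertia A hirr A hT le_rfl hirr hself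
  refine ⟨⟨indFun A (lam : A → ℂ), hI⟩, ?_⟩
  have h1 : indFun A (lam : A → ℂ) 1 = ((A.index : ℕ) : ℂ) * (lam : A → ℂ) 1 :=
    Helper15.indFun_apply_one A _
  rw [map_one, mul_one, hidx] at h1
  exact Helper79.charDegree_natCast_fun h1

end Cfsg.Agent.Helper54.U33
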